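/-
Omega lies in none of the geometric members: all proofs use long root elements.
-/
import Mathlib
import Cfsg.Agent.Aschbacher.Or.Base
import Cfsg.Agent.Aschbacher.Formed.Coord
import Cfsg.Agent.Lib.Forms.Max.OrthBase

set_option autoImplicit false
set_option linter.style.haveILetI false

namespace Cfsg.Agent.Aschbacher

open Matrix
open Cfsg.Geo
open Cfsg.Agent.Forms.QuadStd Cfsg.Agent.Forms.Reflections Cfsg.Agent.Classical.Orth
open scoped commutatorElement

variable {F : Type*} [Field F] {ι : Type} [Fintype ι] [DecidableEq ι] {Q : QuadraticForm F (ι → F)}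

/-- A long root element as a matrix. -/
noncomputable def rootGL {u w : ι → F} (hu : Q u = 0) (huw : QuadraticMap.polar Q u w = 0) : GL ι F :=
  ((eich u w hu huw : Cfsg.isometryGroup F ⇑Q) : GL ι F)

lemma rootGL_mulVec {u w : ι → F} (hu : Q u = 0) (hw : Q w = 0) (huw : QuadraticMap.polar Q u w = 0)
    (x : ι → F) : (rootGL hu huw : Matrix ι ι F) *ᵥ x =
      x + (QuadraticMap.polar Q x u • w - QuadraticMap.polar Q x w • u) := by
  rw [rootGL, ← act_apply, act_eich, hw, zero_mul, zero_smul, sub_zero, add_sub_assoc]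

lemma rootGL_sub_one_mulVec {u w : ι → F} (hu : Q u = 0) (hw : Q w = 0) (huw : QuadraticMap.polar Q u w = 0)
    (x : ι → F) : ((rootGL hu huw : Matrix ι ι F) - 1) *ᵥ x =
      QuadraticMap.polar Q x u • w - QuadraticMap.polar Q x w • u := by
  rw [Matrix.sub_mulVec, Matrix.one_mulVec, rootGL_mulVec hu hw huw, add_sub_cancel_left]

lemma rootGL_sub_one_sq {u w : ι → F} (hu : Q u = 0) (hw : Q w = 0) (huw : QuadraticMap.polar Q u w = 0) :
    ((rootGL hu huw : Matrix ι ι F) - 1) * ((rootGL hu huw : Matrix ι ι F) - 1) = 0 := by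
  refine Matrix.ext_iff_mulVec.2 fun x => ?_
  rw [← Matrix.mulVec_mulVec, Matrix.zero_mulVec]
  simp only [rootGL_sub_one_mulVec hu hw huw, QuadraticMap.polar_sub_left, QuadraticMap.polar_smul_left,
    polar_self_zero hu, polar_self_zero hw, huw, QuadraticMap.polar_comm _ w u, smul_zero, sub_zero,
    zero_smul]

/-- A linear map vanishing only where `A ⊗ A' - 1` does, with a scalar factor, has large image. -/
lemma card_le_finrank_of_pure {k : ℕ} {A : Fin 2 → Matrix (Fin k) (Fin k) F} {i j : Fin 2} (hij : j ≠ i)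
    {s : F} (hs : A i = s • 1) (hne : pureTensor A - 1 ≠ 0) {V : Type*} [AddCommGroup V] [Module F V]
    [FiniteDimensional F V] (L : ((Fin 2 → Fin k) → F) →ₗ[F] V)
    (hL : ∀ x, L x = 0 → (pureTensor A - 1) *ᵥ x = 0) : k ≤ Module.finrank F V := by
  classical
  set M := pureTensor A - 1 with hM
  have hall : ∀ (i j l : Fin 2), j ≠ i → l = i ∨ l = j := by decide
  have hext : ∀ x y : Fin 2 → Fin k, x = y ↔ x i = y i ∧ x j = y j := fun x y =>
    ⟨fun h => h ▸ ⟨rfl, rfl⟩, fun h => funext fun l => by rcases hall i j l hij with rfl | rfl; exacts [h.1, h.2]⟩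
  have hMij : ∀ x y : Fin 2 → Fin k, M x y =
      (if x i = y i then 1 else 0) * (s * A j (x j) (y j) - if x j = y j then 1 else 0) := by
    intro x y
    rw [hM, Matrix.sub_apply, pureTensor_apply,
      show (Finset.univ : Finset (Fin 2)) = {i, j} from Finset.ext fun l => by
        simpa using hall i j l hij,
      Finset.prod_pair hij.symm, hs, Matrix.smul_apply, Matrix.one_apply, Matrix.one_apply, smul_eq_mul]
    by_cases h1 : x i = y i <;> by_cases h3 : x j = y j <;> simp [hext x y, h1, h3]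
  obtain ⟨a₀, b₀, hab⟩ : ∃ a b, s * A j a b - (if a = b then 1 else 0) ≠ 0 := by
    by_contra hh
    push Not at hh
    exact hne (Matrix.ext fun x y => by rw [hMij, hh, mul_zero]; rfl)
  let emb : (Fin k → F) →ₗ[F] ((Fin 2 → Fin k) → F) :=
    { toFun := fun z y => if y j = b₀ then z (y i) else 0
      map_add' := fun z z' => funext fun y => by by_cases h : y j = b₀ <;> simp [h]
      map_smul' := fun c z => funext fun y => by by_cases h : y j = b₀ <;> simp [h] }
  have hinj : Function.Injective (L.comp emb) := by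
    rw [← LinearMap.ker_eq_bot, LinearMap.ker_eq_bot']
    intro z hz
    have h3 := hL _ hz
    funext a
    let xa : Fin 2 → Fin k := fun l => if l = i then a else a₀
    let ya : Fin 2 → Fin k := fun l => if l = i then a else b₀
    have h := congrFun h3 xa
    rw [Matrix.mulVec, dotProduct, Finset.sum_eq_single ya ?_ (by simp), hMij, Pi.zero_apply] at h
    · simp only [xa, ya, emb, if_neg hij, if_pos, LinearMap.coe_mk, AddHom.coe_mk, one_mul] at h
      exact (mul_eq_zero.1 h).resolve_left hab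
    · intro y _ hy
      rw [hMij]
      simp only [xa, emb, if_neg hij, if_pos, LinearMap.coe_mk, AddHom.coe_mk]
      by_cases h1 : a = y i
      · have h4 : y j ≠ b₀ := fun h4 => hy ((hext y ya).2 ⟨by simp [ya, h1], by simp [ya, hij, h4]⟩)
        rw [if_neg h4, mul_zero]
      · rw [if_neg h1, zero_mul, zero_mul]
  have := LinearMap.finrank_le_finrank_of_injective hinj
  rwa [Module.finrank_fintype_fun_eq_card, Fintype.card_fin] at this

variable [Fintype F]

lemma rootGL_mem (hQ : (QuadraticMap.polarBilin Q).Nondegenerate) (f : Frame Q) (hn : 5 ≤ Fintype.card ι)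
    {u w : ι → F} (hu : Q u = 0) (huw : QuadraticMap.polar Q u w = 0) : rootGL hu huw ∈ omegaGL ⇑Q := by
  have h : eich u w hu huw ∈ Cfsg.Omega F ⇑Q := by
    rw [omega_eq_eGroup hQ f hn]
    exact eich_mem _ _ trivial trivial
  exact Subgroup.mem_map_of_mem (Cfsg.isometryGroup F ⇑Q).subtype h

/-- The frame gives a non-trivial long root element. -/
lemma frame_root (f : Frame Q) :
    ((rootGL f.p.hu f.uu' : Matrix ι ι F) - 1) ≠ 0 := by
  intro h
  have h1 := rootGL_sub_one_mulVec f.p.hu f.p'.hu f.uu' f.v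
  rw [h, Matrix.zero_mulVec, f.p.hvu, f.vu', one_smul, zero_smul, sub_zero] at h1
  exact f.p'.ne_zero.1 h1.symm

/-- Long root elements act irreducibly. -/
theorem eq_top_of_root_invariant (hQ : (QuadraticMap.polarBilin Q).Nondegenerate) (hn : 5 ≤ Fintype.card ι)
    {W : Submodule F (ι → F)} (hW0 : W ≠ ⊥)
    (hinv : ∀ (u w : ι → F) (hu : Q u = 0) (_ : Q w = 0) (huw : QuadraticMap.polar Q u w = 0),
      rootGL hu huw ∈ subspaceStabilizer W) : W = ⊤ := by
  classical
  have key : ∀ S : Submodule F (ι → F), S ≠ ⊥ →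
      (∀ (u w : ι → F) (hu : Q u = 0) (_ : Q w = 0) (huw : QuadraticMap.polar Q u w = 0),
        rootGL hu huw ∈ subspaceStabilizer S) → Fintype.card ι ≤ Module.finrank F S + 2 := by
    intro S hS0 hS
    obtain ⟨x, hx, hx0⟩ := Submodule.exists_mem_ne_zero_of_ne_bot hS0
    have htop : ∀ r ∈ (⊤ : Submodule F (ι → F)), r ≠ 0 → ∃ s ∈ (⊤ : Submodule F (ι → F)),
        QuadraticMap.polar Q r s ≠ 0 := fun r _ hr =>
      let ⟨s, hs⟩ := Forms.Max.Orth.exists_ne hQ hr; ⟨s, trivial, hs⟩
    obtain ⟨u, hu, hxu⟩ : ∃ u, Q u = 0 ∧ QuadraticMap.polar Q x u ≠ 0 := by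
      by_contra hall
      push Not at hall
      obtain ⟨y, hy⟩ := Forms.Max.Orth.exists_ne hQ hx0
      have := Forms.Max.Orth.sing_span' hQ htop (T := Forms.Max.Orth.ker Q x)
        (by rw [finrank_top, Module.finrank_fintype_fun_eq_card]; omega)
        (fun v _ hv => Forms.Max.Orth.mem_ker'.2 (hall v hv))
      exact hy (Forms.Max.Orth.mem_ker'.1 (this trivial))
    have hu0 : u ≠ 0 := fun h => hxu (by rw [h]; simp [QuadraticMap.polar, QuadraticMap.map_zero])
    obtain ⟨y, hy⟩ := Forms.Max.Orth.exists_ne hQ hu0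
    obtain ⟨v, -, hv, huv⟩ := Forms.Max.Orth.exists_partner_in (S := (⊤ : Submodule F (ι → F)))
      (e := u) (y := y) trivial trivial hu hy
    set S' := Forms.Max.Orth.ker Q u ⊓ Forms.Max.Orth.ker Q v with hS'
    have hp : IsPair Q u v := ⟨hu, hv, huv⟩
    have hd : 3 ≤ Module.finrank F S' := by
      have h1 := Forms.Max.Orth.finrank_inf_ker hQ ⊤ u
      rw [top_inf_eq, finrank_top, Module.finrank_fintype_fun_eq_card] at h1
      have h2 := Forms.Max.Orth.finrank_inf_ker hQ (Forms.Max.Orth.ker Q u) v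
      rw [← hS'] at h2
      omega
    have hSn : ∀ r ∈ S', r ≠ 0 → ∃ s ∈ S', QuadraticMap.polar Q r s ≠ 0 := by
      intro r hr hr0
      obtain ⟨s, hs⟩ := Forms.Max.Orth.exists_ne hQ hr0
      refine ⟨proj Q u v s, ⟨?_, ?_⟩, ?_⟩
      · rw [SetLike.mem_coe, Forms.Max.Orth.mem_ker', QuadraticMap.polar_comm]; exact (proj_perp hp s).1
      · rw [SetLike.mem_coe, Forms.Max.Orth.mem_ker', QuadraticMap.polar_comm]; exact (proj_perp hp s).2
      · simp only [proj, QuadraticMap.polar_sub_right, QuadraticMap.polar_smul_right,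
          QuadraticMap.polar_comm _ r u, QuadraticMap.polar_comm _ r v, Forms.Max.Orth.mem_ker'.1 hr.1,
          Forms.Max.Orth.mem_ker'.1 hr.2, smul_zero, sub_zero]
        exact hs
    obtain ⟨e₁, e₂, he₁, he₂, hpe⟩ := Forms.Max.Orth.exists_pair hQ hSn hd
    let T : Submodule F (ι → F) :=
      { carrier := {w | QuadraticMap.polar Q x u • w - QuadraticMap.polar Q x w • u ∈ S}
        add_mem' := fun {a b} ha hb => by
          show _ ∈ S
          rw [QuadraticMap.polar_add_right, smul_add, add_smul, add_sub_add_comm]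
          exact S.add_mem ha hb
        zero_mem' := by
          show _ ∈ S
          simp [QuadraticMap.polar, QuadraticMap.map_zero]
        smul_mem' := fun c a ha => by
          show _ ∈ S
          rw [QuadraticMap.polar_smul_right, smul_comm (QuadraticMap.polar Q x u) c a, smul_eq_mul, mul_smul,
            ← smul_sub]
          exact S.smul_mem c ha }
    have hker : Forms.Max.Orth.ker Q u ≤ T :=
      Forms.Max.Orth.sing_span hpe he₁.1 he₂.1 fun w hw hQw => by
        have h := (mem_subspaceStabilizer.1 (hS u w hu hQw (Forms.Max.Orth.mem_ker'.1 hw)) x).1 hx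
        rw [rootGL_mulVec hu hQw] at h
        exact (S.add_mem_iff_right hx).1 h
    have hle : Forms.Max.Orth.ker Q u ≤ S ⊔ Submodule.span F {u} := fun w hw => by
      have h := hker hw
      have e : w = (QuadraticMap.polar Q x u)⁻¹ • (QuadraticMap.polar Q x u • w - QuadraticMap.polar Q x w • u)
          + ((QuadraticMap.polar Q x u)⁻¹ * QuadraticMap.polar Q x w) • u := by
        rw [smul_sub, smul_smul, smul_smul, inv_mul_cancel₀ hxu, one_smul, sub_add_cancel]
      rw [e]
      exact Submodule.add_mem_sup (S.smul_mem _ h) (Submodule.smul_mem _ _ (Submodule.mem_span_singleton_self u))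
    have h1 := Forms.Max.Orth.finrank_inf_ker hQ ⊤ u
    rw [top_inf_eq, finrank_top, Module.finrank_fintype_fun_eq_card] at h1
    have h2 := (Submodule.finrank_mono hle).trans (Submodule.finrank_add_le_finrank_add_finrank _ _)
    rw [finrank_span_singleton hu0] at h2
    omega
  by_contra hW1
  have hperp : ∀ (u w : ι → F) (hu : Q u = 0) (_ : Q w = 0) (huw : QuadraticMap.polar Q u w = 0),
      rootGL hu huw ∈ subspaceStabilizer (Forms.Max.Orth.perp Q W) := by
    intro u w hu hw huw
    refine mem_subspaceStabilizer_of_forall fun v hv => Forms.Max.Orth.mem_perp.2 fun z hz => ?_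
    set g := eich u w hu huw with hg
    have hz' : act g⁻¹ z ∈ W := by
      have := (mem_subspaceStabilizer.1 (inv_mem (hinv u w hu hw huw)) z).1 hz
      rw [act_apply]
      exact this
    rw [show (rootGL hu huw : Matrix ι ι F) *ᵥ v = act g v from (act_apply g v).symm,
      ← act_cancel_inv g z, act_polar]
    exact Forms.Max.Orth.mem_perp.1 hv _ hz'
  have h1 := key W hW0 hinv
  have h2 := Forms.Max.Orth.finrank_perp hQ W
  by_cases hP : Forms.Max.Orth.perp Q W = ⊥
  · rw [hP, finrank_bot, zero_add] at h2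
    exact hW1 (Submodule.eq_top_of_finrank_eq (by rw [h2, Module.finrank_fintype_fun_eq_card]))
  · have h3 := key _ hP hperp
    omega

variable (hQ : (QuadraticMap.polarBilin Q).Nondegenerate) (f : Frame Q) (hn : 5 ≤ Fintype.card ι)

include hQ f hn

theorem not_omega_le_subspace {W : Submodule F (ι → F)} (h0 : W ≠ ⊥) (h1 : W ≠ ⊤) :
    ¬ omegaGL ⇑Q ≤ subspaceStabilizer W := fun hle =>
  h1 (eq_top_of_root_invariant hQ hn h0 fun _ _ hu _ huw => hle (rootGL_mem hQ f hn hu huw))

theorem not_omega_le_decomposition (h2 : (2 : F) ≠ 0) {t k : ℕ} {D : Fin t → Submodule F (ι → F)}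
    (hD : IsMDecomposition k D) : ¬ omegaGL ⇑Q ≤ decompositionStabilizer D := by
  intro hle
  have ht := hD.two_le
  set i : Fin t := ⟨0, by omega⟩
  have hne : D i ≠ ⊥ := fun h => by
    have h1 := hD.finrank_eq i
    rw [h, finrank_bot] at h1
    exact absurd hD.pos (by omega)
  have htop : D i = ⊤ := by
    refine eq_top_of_root_invariant hQ hn hne fun u w hu hw huw => ?_
    obtain ⟨σ, hσ⟩ := hle (rootGL_mem hQ f hn hu huw)
    set g := rootGL hu huw with hg
    have hmap : ∀ (l : Fin t) (v : ι → F), v ∈ D l → (g : Matrix ι ι F) *ᵥ v ∈ D (σ l) := fun l v hv => by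
      rw [← hσ l, ← Matrix.toLin'_apply]
      exact Submodule.mem_map_of_mem hv
    refine mem_subspaceStabilizer_of_forall fun v hv => ?_
    suffices hσi : σ i = i by
      have := hmap i v hv
      rwa [hσi] at this
    by_contra hσi
    obtain ⟨z, hz, hz0⟩ := Submodule.exists_mem_ne_zero_of_ne_bot hne
    have hsq : (g : Matrix ι ι F) *ᵥ ((g : Matrix ι ι F) *ᵥ z) + z = (2 : F) • ((g : Matrix ι ι F) *ᵥ z) := by
      have h := congrArg (· *ᵥ z) (rootGL_sub_one_sq hu hw huw)
      simp only [← hg, sub_mul, mul_sub, one_mul, mul_one, Matrix.sub_mulVec, ← Matrix.mulVec_mulVec,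
        Matrix.one_mulVec, Matrix.zero_mulVec] at h
      rw [two_smul, ← sub_eq_zero, ← h]
      abel
    have h1 := hmap i z hz
    have h3 := hmap (σ i) _ h1
    have hdisj : Disjoint (D i) (⨆ (l : Fin t) (_ : l ≠ i), D l) := hD.indep i
    rw [Submodule.disjoint_def] at hdisj
    by_cases hss : σ (σ i) = i
    · have h4 : (2 : F) • ((g : Matrix ι ι F) *ᵥ z) ∈ D i := by
        rw [← hsq]; exact add_mem (hss ▸ h3) hz
      have h5 := hdisj _ h4 (Submodule.mem_iSup_of_mem (σ i) (Submodule.mem_iSup_of_mem hσi (Submodule.smul_mem _ _ h1)))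
      have h6 : (g : Matrix ι ι F) *ᵥ z = 0 := (smul_eq_zero.1 h5).resolve_left h2
      have := congrArg (((g⁻¹ : GL ι F) : Matrix ι ι F) *ᵥ ·) h6
      exact hz0 (by simpa [Matrix.mulVec_mulVec] using this)
    · have h4 : z ∈ ⨆ (l : Fin t) (_ : l ≠ i), D l := by
        rw [show z = (2 : F) • ((g : Matrix ι ι F) *ᵥ z) - (g : Matrix ι ι F) *ᵥ ((g : Matrix ι ι F) *ᵥ z) from
          eq_sub_of_add_eq (by rw [← hsq, add_comm])]
        exact sub_mem (Submodule.mem_iSup_of_mem (σ i) (Submodule.mem_iSup_of_mem hσi (Submodule.smul_mem _ _ h1)))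
          (Submodule.mem_iSup_of_mem (σ (σ i)) (Submodule.mem_iSup_of_mem hss h3))
      exact hz0 (hdisj z hz h4)
  have h1 := hD.finrank_eq i
  rw [htop, finrank_top, Module.finrank_fintype_fun_eq_card, card_eq_of_decomposition hD] at h1
  have := hD.pos
  nlinarith

theorem not_omega_le_subfield (h2 : (2 : F) ≠ 0) {F₀ : Subfield F} {r : ℕ} (hr : r.Prime)
    (hcard : Fintype.card F = Nat.card F₀ ^ r) (P : GL ι F) : ¬ omegaGL ⇑Q ≤ subfieldSubgroup F₀ P := by
  classical
  intro hle
  set N : Matrix ι ι F := (rootGL f.p.hu f.uu' : Matrix ι ι F) - 1 with hN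
  set Pi' : Matrix ι ι F := ((P⁻¹ : GL ι F) : Matrix ι ι F)
  set N' : Matrix ι ι F := Pi' * N * (P : Matrix ι ι F) with hN'
  have hN'0 : N' ≠ 0 := fun h => frame_root f (by
    have := congrArg (fun M => (P : Matrix ι ι F) * M * Pi') h
    simpa [hN', Pi', ← mul_assoc, mul_assoc _ (P : Matrix ι ι F) ((P⁻¹ : GL ι F) : Matrix ι ι F)] using this)
  have hN'sq : N' * N' = 0 := by
    have h := rootGL_sub_one_sq f.p.hu f.p'.hu f.uu'
    rw [← hN] at h
    calc N' * N' = Pi' * (N * ((P : Matrix ι ι F) * Pi') * N) * (P : Matrix ι ι F) := by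
          simp only [hN', mul_assoc]
      _ = 0 := by simp only [Pi', Units.mul_inv, mul_one, h, mul_zero, zero_mul]
  obtain ⟨i, j, hij, hne⟩ : ∃ i j, i ≠ j ∧ N' i j ≠ 0 := by
    by_contra hall
    push Not at hall
    have hd : N' = Matrix.diagonal fun i => N' i i := by
      ext a b
      by_cases h : a = b
      · subst h; simp
      · rw [Matrix.diagonal_apply_ne _ h, hall a b h]
    have : ∀ a, N' a a = 0 := fun a => by
      have h := congrFun (congrFun hN'sq a) a
      rw [hd, Matrix.diagonal_mul_diagonal, Matrix.diagonal_apply_eq, Matrix.zero_apply] at h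
      exact mul_self_eq_zero.1 h
    exact hN'0 (by rw [hd]; simp [this])
  have key : ∀ t : F, t ≠ 0 → t * N' i j ∈ F₀ := by
    intro t ht
    have huw : QuadraticMap.polar Q f.u (t • f.u') = 0 := by
      rw [QuadraticMap.polar_smul_right, f.uu', smul_zero]
    have hQw : Q (t • f.u') = 0 := by rw [QuadraticMap.map_smul, f.p'.hu, smul_zero]
    set g := rootGL f.p.hu huw with hg
    have hgN : (g : Matrix ι ι F) = 1 + t • N := by
      refine Matrix.ext_iff_mulVec.2 fun x => ?_
      rw [hg, rootGL_mulVec f.p.hu hQw, Matrix.add_mulVec, Matrix.one_mulVec, Matrix.smul_mulVec, hN,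
        rootGL_sub_one_mulVec f.p.hu f.p'.hu, QuadraticMap.polar_smul_right]
      module
    obtain ⟨x, hx, hxg⟩ := Subgroup.mem_map.1 (hle (rootGL_mem hQ f hn f.p.hu huw))
    obtain ⟨y, ⟨A, rfl⟩, z, hz, rfl⟩ := Subgroup.mem_sup_of_normal_right.1 hx
    obtain ⟨c, hc⟩ := (Cfsg.Geo.mem_scalars_iff z).1 hz
    set A' : Matrix ι ι F := (A : Matrix ι ι F₀).map F₀.subtype with hA'
    have hAF : ∀ a b, A' a b ∈ F₀ := fun a b => ((A : Matrix ι ι F₀) a b).2
    have hM : 1 + t • N' = (c : F) • A' := by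
      have h1 : Pi' * (g : Matrix ι ι F) * (P : Matrix ι ι F) = (c : F) • A' := by
        rw [hg, ← hxg]
        show Pi' * ((P : Matrix ι ι F) * (A' * (z : Matrix ι ι F)) * ((P⁻¹ : GL ι F) : Matrix ι ι F)) *
          (P : Matrix ι ι F) = _
        simp only [Pi', ← mul_assoc, Units.inv_mul, one_mul]
        rw [mul_assoc _ ((P⁻¹ : GL ι F) : Matrix ι ι F), Units.inv_mul, mul_one, hc, Matrix.mul_smul, mul_one]
      rw [← h1, hgN, mul_add, mul_one, add_mul, Matrix.mul_smul, Matrix.smul_mul, hN']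
      simp [Pi']
    have e1 : t * N' i j = (c : F) * A' i j := by
      have := congrFun (congrFun hM i) j
      simpa [Matrix.one_apply_ne hij] using this
    have e2 : (c : F) * (c : F) * (A' * A') i j = 2 * (t * N' i j) := by
      have hMM : (1 + t • N') * (1 + t • N') = ((c : F) • A') * ((c : F) • A') := by rw [hM]
      simp only [mul_add, add_mul, Matrix.mul_smul, Matrix.smul_mul, one_mul, mul_one, hN'sq, smul_zero,
        add_zero, smul_smul] at hMM
      have h := congrFun (congrFun hMM i) j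
      simp only [Matrix.add_apply, Matrix.smul_apply, smul_eq_mul, Matrix.one_apply_ne hij] at h
      rw [← h]; ring
    have hA0 : A' i j ≠ 0 := fun h => mul_ne_zero ht hne (by rw [e1, h, mul_zero])
    have e3 : (c : F) * (A' * A') i j = 2 * A' i j := mul_left_cancel₀ c.ne_zero (by
      rw [← mul_assoc, e2, e1]; ring)
    have hAA : (A' * A') i j ∈ F₀ := by
      rw [Matrix.mul_apply]; exact sum_mem fun l _ => mul_mem (hAF _ _) (hAF _ _)
    have hAA0 : (A' * A') i j ≠ 0 := fun h => by
      rw [h, mul_zero, eq_comm] at e3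
      exact mul_ne_zero h2 hA0 e3
    have hcF : (c : F) ∈ F₀ := by
      rw [eq_div_iff hAA0 |>.2 e3]
      exact div_mem (mul_mem (natCast_mem F₀ 2) (hAF _ _)) hAA
    rw [e1]
    exact mul_mem hcF (hAF _ _)
  have htop : ∀ t : F, t ∈ F₀ := by
    intro t
    by_cases ht : t = 0
    · rw [ht]; exact zero_mem _
    have h1 := key 1 one_ne_zero
    rw [one_mul] at h1
    rw [show t = t * N' i j / N' i j by rw [mul_div_assoc, div_self hne, mul_one]]
    exact div_mem (key t ht) h1
  have h3 : Nat.card F₀ = Fintype.card F := by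
    rw [Nat.card_congr (Equiv.subtypeUnivEquiv htop), Nat.card_eq_fintype_card]
  rw [h3] at hcard
  have h4 := Nat.pow_right_injective (Fintype.one_lt_card (α := F)) (show Fintype.card F ^ 1 = _ by rw [pow_one]; exact hcard)
  exact hr.ne_one h4.symm

theorem not_omega_le_field {r : ℕ} (hr : 3 ≤ r) {K : Subalgebra F (Matrix ι ι F)}
    (hK : IsFieldSubalgebra r K) : ¬ omegaGL ⇑Q ≤ subalgebraNormalizer K := by
  classical
  intro hle
  haveI : Nonempty ι := Fintype.card_pos_iff.1 (by omega)
  have hconj : ∀ g ∈ subalgebraNormalizer K, ∀ k ∈ K, conjMat g k ∈ K := fun g hg k hk => (hg k).1 hk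
  have hF : IsField K :=
    { exists_pair_ne := ⟨0, 1, zero_ne_one⟩
      mul_comm := fun a b => Subtype.ext (hK.comm a a.2 b b.2)
      mul_inv_cancel := fun {a} ha => by
        obtain ⟨y, hy, h⟩ := hK.inv a a.2 fun h => ha (Subtype.ext h)
        exact ⟨⟨y, hy⟩, Subtype.ext h⟩ }
  letI : Field K := hF.toField
  haveI : Finite K := inferInstance
  let φ : subalgebraNormalizer K → (K ≃ₐ[F] K) := fun g =>
    AlgEquiv.ofBijective (((conjMat (g : GL ι F)).toAlgHom.comp K.val).codRestrict K fun k => hconj g g.2 k k.2)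
      (Finite.injective_iff_bijective.1 fun a b h =>
        Subtype.ext ((conjMat (g : GL ι F)).injective (congrArg Subtype.val h)))
  have hφ : ∀ (g : subalgebraNormalizer K) (k : K),
      ((φ g k : K) : Matrix ι ι F) = conjMat (g : GL ι F) k := fun g k => rfl
  let Φ : subalgebraNormalizer K →* (K ≃ₐ[F] K) :=
    { toFun := φ
      map_one' := AlgEquiv.ext fun k => Subtype.ext (by rw [hφ]; simp [conjMat_apply])
      map_mul' := fun g h => AlgEquiv.ext fun k => Subtype.ext (by
        rw [hφ, AlgEquiv.mul_apply, hφ, hφ, Subgroup.coe_mul, conjMat_mul]) }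
  have hfix : omegaGL ⇑Q ≤ Φ.ker.map (subalgebraNormalizer K).subtype := by
    have hc : ⁅omegaGL ⇑Q, omegaGL ⇑Q⁆ = omegaGL ⇑Q := by
      rw [omegaGL, ← Subgroup.map_commutator]
      congr 1
      have h := commutator_omega_eq_top hQ f hn
      rw [← Subgroup.map_subtype_commutator, h, ← MonoidHom.range_eq_map, Subgroup.range_subtype]
    rw [← hc, Subgroup.commutator_le]
    intro a ha b hb
    refine ⟨⁅(⟨a, hle ha⟩ : subalgebraNormalizer K), (⟨b, hle hb⟩ : subalgebraNormalizer K)⁆, ?_, rfl⟩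
    rw [SetLike.mem_coe, MonoidHom.mem_ker, map_commutatorElement, commutatorElement_eq_one_iff_mul_comm]
    exact mul_comm' _ _
  obtain ⟨x, hx, hxg⟩ := hfix (rootGL_mem hQ f hn f.p.hu f.uu')
  set N : Matrix ι ι F := (rootGL f.p.hu f.uu' : Matrix ι ι F) - 1 with hN
  have hNk : ∀ k ∈ K, N * k = k * N := by
    intro k hk
    have h1 : conjMat (rootGL f.p.hu f.uu') k = k := by
      rw [← hxg]
      show conjMat (x : GL ι F) ((⟨k, hk⟩ : K) : Matrix ι ι F) = k
      rw [← hφ]
      exact congrArg (fun y : K => (y : Matrix ι ι F)) (AlgEquiv.congr_fun (MonoidHom.mem_ker.1 hx) ⟨k, hk⟩)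
    rw [hN, sub_mul, mul_sub, one_mul, mul_one, (conjMat_eq_self_iff _ _).1 h1]
  obtain ⟨z, hz⟩ : ∃ z, N *ᵥ z ≠ 0 := by
    by_contra hall
    push Not at hall
    exact frame_root f (Matrix.ext_iff_mulVec.2 fun v => by rw [← hN, hall, Matrix.zero_mulVec])
  let R : Submodule F (ι → F) := Submodule.span F {f.u', f.u}
  have hR : ∀ v, N *ᵥ v ∈ R := fun v => by
    rw [hN, rootGL_sub_one_mulVec f.p.hu f.p'.hu]
    exact sub_mem (Submodule.smul_mem _ _ (Submodule.subset_span (by simp)))
      (Submodule.smul_mem _ _ (Submodule.subset_span (by simp)))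
  let L : K →ₗ[F] R :=
    { toFun := fun k => ⟨(k : Matrix ι ι F) *ᵥ (N *ᵥ z), by
        rw [Matrix.mulVec_mulVec, ← hNk _ k.2, ← Matrix.mulVec_mulVec]; exact hR _⟩
      map_add' := fun a b => Subtype.ext (Matrix.add_mulVec _ _ _)
      map_smul' := fun c a => Subtype.ext (Matrix.smul_mulVec c _ _) }
  have hL : Function.Injective L := by
    rw [← LinearMap.ker_eq_bot, LinearMap.ker_eq_bot']
    intro k hk
    by_contra hk0
    obtain ⟨y, hy, hky⟩ := hK.inv k k.2 fun h => hk0 (Subtype.ext h)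
    apply hz
    have h0 : (k : Matrix ι ι F) *ᵥ (N *ᵥ z) = 0 := congrArg Subtype.val hk
    rw [← Matrix.one_mulVec (N *ᵥ z), ← hky, hK.comm k k.2 y hy, ← Matrix.mulVec_mulVec, h0, Matrix.mulVec_zero]
  have h1 := LinearMap.finrank_le_finrank_of_injective hL
  have h3 : Module.finrank F R ≤ 2 := by
    refine (finrank_span_le_card _).trans ?_
    simp only [Set.toFinset_insert, Set.toFinset_singleton]
    exact Finset.card_le_two
  rw [hK.finrank_eq] at h1
  omega

theorem not_omega_le_wreath (h2 : (2 : F) ≠ 0) {k : ℕ} (hk : 3 ≤ k) (e : ι ≃ (Fin 2 → Fin k)) (P : GL ι F) :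
    ¬ omegaGL ⇑Q ≤ tensorWreathSubgroup k 2 e P := by
  classical
  intro hle
  set N : Matrix ι ι F := (rootGL f.p.hu f.uu' : Matrix ι ι F) - 1 with hN
  set g := rootGL f.p.hu f.uu' with hg
  -- a root element is a square, so it keeps the two slots
  have hhalf : QuadraticMap.polar Q f.u ((2 : F)⁻¹ • f.u') = 0 := by
    rw [QuadraticMap.polar_smul_right, f.uu', smul_zero]
  have hsq : g = rootGL f.p.hu hhalf * rootGL f.p.hu hhalf := by
    rw [hg, rootGL, rootGL, ← Subgroup.coe_mul, eich_mul f.p.hu hhalf hhalf]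
    congr 1
    exact eich_congr (by rw [← add_smul, ← two_mul, mul_inv_cancel₀ h2, one_smul]) _ _
  obtain ⟨σ, gs, hgs⟩ := exists_monTensor_of_mem_wreath (hle (rootGL_mem hQ f hn f.p.hu hhalf))
  set A : Fin 2 → Matrix (Fin k) (Fin k) F := fun i =>
    (gs i : Matrix (Fin k) (Fin k) F) * (gs (σ i) : Matrix (Fin k) (Fin k) F) with hA
  have hgA : (glCoord e P g : Matrix (Fin 2 → Fin k) (Fin 2 → Fin k) F) = pureTensor A := by
    have hmul : glCoord e P g = glCoord e P (rootGL f.p.hu hhalf) * glCoord e P (rootGL f.p.hu hhalf) := by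
      rw [hsq, glCoord, glCoord, ← map_mul]
      congr 1
      group
    have hall : ∀ τ : Equiv.Perm (Fin 2), τ.trans τ = 1 := by decide
    have hσ : σ.trans σ = 1 := hall σ
    rw [hmul, Units.val_mul, hgs, monTensor_mul, hσ, monTensor_one_left]
  -- in coordinates
  set M : Matrix (Fin 2 → Fin k) (Fin 2 → Fin k) F := (glCoord e P g : Matrix _ _ F) - 1 with hM
  have hMN : ∀ x : (Fin 2 → Fin k) → F, N *ᵥ ((P : Matrix ι ι F) *ᵥ (x ∘ e)) =
      (P : Matrix ι ι F) *ᵥ ((M *ᵥ x) ∘ e) := fun x => by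
    rw [hN, hM, Matrix.sub_mulVec, Matrix.one_mulVec, ← glCoord_mulVec, Matrix.sub_mulVec,
      Matrix.one_mulVec, ← Matrix.mulVec_sub]
    rfl
  have hPinj : ∀ x y : (Fin 2 → Fin k) → F,
      (P : Matrix ι ι F) *ᵥ (x ∘ e) = (P : Matrix ι ι F) *ᵥ (y ∘ e) → x = y := fun x y h => by
    have h1 := Matrix.mulVec_injective_iff_isUnit.2 P.isUnit h
    exact funext fun a => by simpa using congrFun h1 (e.symm a)
  have hM2 : ∀ a b c d, (A 0 * A 0) a b * (A 1 * A 1) c d - 2 * (A 0 a b * A 1 c d) +
      (if a = b ∧ c = d then 1 else 0) = 0 := by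
    have hMM : M * M = 0 := by
      refine Matrix.ext_iff_mulVec.2 fun x => hPinj _ _ ?_
      rw [← Matrix.mulVec_mulVec, ← hMN, ← hMN, Matrix.mulVec_mulVec, hN,
        rootGL_sub_one_sq f.p.hu f.p'.hu, Matrix.zero_mulVec, Matrix.zero_mulVec]
      exact (Matrix.mulVec_zero _).symm
    intro a b c d
    have h := congrFun (congrFun hMM ![a, c]) ![b, d]
    rw [hM, hgA, sub_mul, mul_sub, one_mul, mul_one, ← map_mul] at h
    simp only [Matrix.sub_apply, pureTensor_apply, Fin.prod_univ_two, Pi.mul_apply, Matrix.zero_apply,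
      Matrix.cons_val_zero, Matrix.cons_val_one, Matrix.one_apply] at h
    have hiff : (![a, c] = ![b, d]) ↔ (a = b ∧ c = d) := by
      constructor
      · intro h'; exact ⟨congrFun h' 0, congrFun h' 1⟩
      · rintro ⟨rfl, rfl⟩; rfl
    by_cases hc : a = b ∧ c = d
    · rw [if_pos (hiff.2 hc)] at h
      rw [if_pos hc]
      linear_combination h
    · rw [if_neg (fun h' => hc (hiff.1 h'))] at h
      rw [if_neg hc]
      linear_combination h
  have hite : ∀ a b c d : Fin k, (if a = b ∧ c = d then (1 : F) else 0) =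
      (if a = b then 1 else 0) * (if c = d then 1 else 0) := fun a b c d => by
    by_cases h1 : a = b <;> by_cases h3 : c = d <;> simp [h1, h3]
  have hscal : (∃ s : F, A 0 = s • (1 : Matrix (Fin k) (Fin k) F)) ∨
      ∃ s : F, A 1 = s • (1 : Matrix (Fin k) (Fin k) F) := by
    by_contra hns
    push Not at hns
    obtain ⟨c₀, d₀, hcd⟩ : ∃ c d, (A 1 * A 1) c d ≠ 0 := by
      by_contra hall
      push Not at hall
      have h := hM2 ⟨0, by omega⟩ ⟨0, by omega⟩ ⟨0, by omega⟩ ⟨0, by omega⟩
      haveI : Nonempty (Fin k) := ⟨⟨0, by omega⟩⟩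
      have hu : ∀ l, IsUnit (A l).det := fun l => by
        rw [hA, Matrix.det_mul]
        exact ((Matrix.isUnit_iff_isUnit_det _).1 (gs l).isUnit).mul ((Matrix.isUnit_iff_isUnit_det _).1 (gs (σ l)).isUnit)
      have hdet := (hu 1).mul (hu 1)
      rw [← Matrix.det_mul, show A 1 * A 1 = 0 from Matrix.ext hall, Matrix.det_zero] at hdet
      exact not_isUnit_zero hdet
    set x : F := 2 * A 1 c₀ d₀ / (A 1 * A 1) c₀ d₀ with hx
    set y : F := -(if c₀ = d₀ then 1 else 0) / (A 1 * A 1) c₀ d₀ with hy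
    have hA0 : ∀ a b, (A 0 * A 0) a b = x * A 0 a b + y * (if a = b then 1 else 0) := fun a b => by
      have h := hM2 a b c₀ d₀
      rw [hite] at h
      rw [hx, hy, div_mul_eq_mul_div, div_mul_eq_mul_div, ← add_div, eq_div_iff hcd]
      linear_combination h
    have hlin : ∀ c d, (x * (A 1 * A 1) c d - 2 * A 1 c d) • A 0 +
        (y * (A 1 * A 1) c d + if c = d then 1 else 0) • (1 : Matrix (Fin k) (Fin k) F) = 0 := fun c d => by
      ext a b
      have h := hM2 a b c d
      rw [hA0, hite] at h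
      simp only [Matrix.add_apply, Matrix.smul_apply, smul_eq_mul, Matrix.zero_apply, Matrix.one_apply]
      linear_combination h
    have hcoef : ∀ c d, x * (A 1 * A 1) c d - 2 * A 1 c d = 0 := fun c d => by
      by_contra hne
      refine hns.1 (-(x * (A 1 * A 1) c d - 2 * A 1 c d)⁻¹ * (y * (A 1 * A 1) c d + if c = d then 1 else 0)) ?_
      have h := eq_neg_of_add_eq_zero_left (hlin c d)
      calc A 0 = (x * (A 1 * A 1) c d - 2 * A 1 c d)⁻¹ • ((x * (A 1 * A 1) c d - 2 * A 1 c d) • A 0) := by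
            rw [smul_smul, inv_mul_cancel₀ hne, one_smul]
        _ = _ := by rw [h, ← neg_smul, smul_smul, neg_mul, mul_neg]
    have hone : ∀ c d, y * (A 1 * A 1) c d + (if c = d then 1 else 0) = 0 := fun c d => by
      have h := hlin c d
      rw [hcoef, zero_smul, zero_add] at h
      have := congrFun (congrFun h ⟨0, by omega⟩) ⟨0, by omega⟩
      simpa using this
    have hy0 : y ≠ 0 := fun h => by
      have := hone ⟨0, by omega⟩ ⟨0, by omega⟩
      rw [h, zero_mul, zero_add, if_pos rfl] at this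
      exact one_ne_zero this
    refine hns.2 (-x / (2 * y)) ?_
    ext c d
    rw [Matrix.smul_apply, smul_eq_mul, Matrix.one_apply, div_mul_eq_mul_div, eq_div_iff (mul_ne_zero h2 hy0)]
    linear_combination (-y) * hcoef c d + x * hone c d
  -- then the image is too large
  let R : Submodule F (ι → F) := Submodule.span F {f.u', f.u}
  have hR : ∀ v, N *ᵥ v ∈ R := fun v => by
    rw [hN, hg, rootGL_sub_one_mulVec f.p.hu f.p'.hu]
    exact sub_mem (Submodule.smul_mem _ _ (Submodule.subset_span (by simp)))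
      (Submodule.smul_mem _ _ (Submodule.subset_span (by simp)))
  let L : ((Fin 2 → Fin k) → F) →ₗ[F] R :=
    { toFun := fun z => ⟨N *ᵥ ((P : Matrix ι ι F) *ᵥ (z ∘ e)), hR _⟩
      map_add' := fun z z' => Subtype.ext (by
        show N *ᵥ _ = N *ᵥ _ + N *ᵥ _
        rw [← Matrix.mulVec_add, ← Matrix.mulVec_add]; rfl)
      map_smul' := fun c z => Subtype.ext (by
        show N *ᵥ _ = c • (N *ᵥ _)
        rw [← Matrix.mulVec_smul, ← Matrix.mulVec_smul]; rfl) }
  have hLM : ∀ x, L x = 0 → (pureTensor A - 1) *ᵥ x = 0 := fun x hx => by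
    have h0 : N *ᵥ ((P : Matrix ι ι F) *ᵥ (x ∘ e)) = 0 := congrArg Subtype.val hx
    rw [hMN, hM, hgA] at h0
    exact hPinj _ 0 (by rw [h0]; exact (Matrix.mulVec_zero _).symm)
  have hne : pureTensor A - 1 ≠ 0 := by
    intro hM0
    refine frame_root f (Matrix.ext_iff_mulVec.2 fun v => ?_)
    have h := hMN ((((P⁻¹ : GL ι F) : Matrix ι ι F) *ᵥ v) ∘ e.symm)
    rw [Function.comp_assoc, Equiv.symm_comp_self, Function.comp_id, Matrix.mulVec_mulVec v (P : Matrix ι ι F),
      Units.mul_inv, Matrix.one_mulVec, hM, hgA, hM0, Matrix.zero_mulVec] at h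
    rw [← hg, ← hN, h, Matrix.zero_mulVec]
    exact Matrix.mulVec_zero _
  have h3 : Module.finrank F R ≤ 2 := by
    refine (finrank_span_le_card _).trans ?_
    simp only [Set.toFinset_insert, Set.toFinset_singleton]
    exact Finset.card_le_two
  rcases hscal with ⟨s, hs⟩ | ⟨s, hs⟩
  · have := card_le_finrank_of_pure (i := 0) (j := 1) (by decide) hs hne L hLM
    omega
  · have := card_le_finrank_of_pure (i := 1) (j := 0) (by decide) hs hne L hLM
    omega

end Cfsg.Agent.Aschbacher
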