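/-
Over three elements: decompositions into three-spaces refine to lines, plus-type planes give lines.
-/
import Mathlib
import Cfsg.Agent.Aschbacher.Or.Tensor

set_option autoImplicit false
set_option linter.style.haveILetI false

namespace Cfsg.Agent.Aschbacher

open Matrix
open Cfsg.Geo

variable {F : Type*} [Field F]

/-- Matrix entries of the form on columns. -/
lemma form_cols {ι : Type} [Fintype ι] [DecidableEq ι] (D : FormData ι F) (hτ : D.τ = RingEquiv.refl F)
    {α β : Type*} [Fintype α] [Fintype β] (X : Matrix ι α F) (Y : Matrix ι β F) (i : α) (j : β) :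
    (Xᵀ * D.T * Y) i j = D.form (fun x => X x i) (fun x => Y x j) := by
  rw [D.form_def, hτ, Matrix.mul_assoc, Matrix.mul_apply']
  rfl

variable [Fintype F] {m : ℕ} {H : Subgroup (GL (OIdx m) F)}

omit [Fintype F] in
lemma decomposition_cast {ι : Type} [Fintype ι] [DecidableEq ι] {Q : (ι → F) → F} {H : Subgroup (GL ι F)}
    {N N' : ℕ} (h : N = N') :
    (∃ E : Fin N → Submodule F (ι → F), IsOrthogonalMDecomposition Q 1 E ∧ H ≤ decompositionStabilizer E) →
    ∃ E : Fin N' → Submodule F (ι → F), IsOrthogonalMDecomposition Q 1 E ∧ H ≤ decompositionStabilizer E := by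
  subst h; exact id

/-- Over three elements a decomposition into three-spaces refines to one into lines. -/
theorem exists_lines_of_threes (h2 : (2 : F) ≠ 0) (hm : 1 ≤ m) (hq : Fintype.card F = 3) {t : ℕ}
    {Dc : Fin t → Submodule F (OIdx m → F)}
    (hDc : IsOrthogonalMDecomposition (Cfsg.quadFormOdd m F) 3 Dc)
    (hHI : H ≤ Cfsg.isometryGroup F (Cfsg.quadFormOdd m F)) (hHD : H ≤ decompositionStabilizer Dc) :
    ∃ E : Fin (2 * m + 1) → Submodule F (OIdx m → F),
      IsOrthogonalMDecomposition (Cfsg.quadFormOdd m F) 1 E ∧ H ≤ decompositionStabilizer E := by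
  classical
  set D := orData h2 m with hD
  set Q := Cfsg.quadFormOdd m F with hQ
  have hpol : D.form = QuadraticMap.polar Q := orData_form h2
  have hdec := hDc.decomp.decomp
  have ht := hdec.two_le
  set i₀ : Fin t := ⟨0, by omega⟩
  let b := Module.finBasisOfFinrankEq F (Dc i₀) (hdec.finrank_eq i₀)
  set Bm : Matrix (OIdx m) (Fin 3) F := Matrix.of fun x a => (b a : OIdx m → F) x with hBm
  have hBmem : ∀ z : Fin 3 → F, Bm *ᵥ z ∈ Dc i₀ := fun z => by
    have : Bm *ᵥ z = ∑ a, z a • (b a : OIdx m → F) := by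
      funext x
      simp [hBm, Matrix.mulVec, dotProduct, Finset.sum_apply, mul_comm]
    rw [this]
    exact sum_mem fun a _ => Submodule.smul_mem _ _ (b a).2
  have hBinj : ∀ z : Fin 3 → F, Bm *ᵥ z = 0 → z = 0 := fun z hz => by
    have h1 : ∑ a, z a • b a = 0 := by
      refine Subtype.ext ?_
      simp only [Submodule.coe_sum, Submodule.coe_smul, ZeroMemClass.coe_zero]
      refine Eq.trans ?_ hz
      funext x
      simp [hBm, Matrix.mulVec, dotProduct, Finset.sum_apply, mul_comm]
    funext a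
    exact Fintype.linearIndependent_iff.1 b.linearIndependent z h1 a
  have hBsurj : ∀ w ∈ Dc i₀, ∃ z, Bm *ᵥ z = w := fun w hw => ⟨b.repr ⟨w, hw⟩, by
    have h := congrArg (fun y : Dc i₀ => (y : OIdx m → F)) (b.sum_repr ⟨w, hw⟩)
    simp only [Submodule.coe_sum, Submodule.coe_smul] at h
    refine Eq.trans ?_ h
    funext x
    simp [hBm, Matrix.mulVec, dotProduct, Finset.sum_apply, mul_comm]⟩
  have hτid : ∀ v : OIdx m → F, D.τ ∘ v = v := fun v => rfl
  set S : Matrix (Fin 3) (Fin 3) F := Bmᵀ * D.T * Bm with hS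
  have hSu : IsUnit S.det := by
    rw [isUnit_iff_ne_zero]
    intro h0
    obtain ⟨z, hz0, hz⟩ := Matrix.exists_mulVec_eq_zero_iff.2 h0
    have hw0 : Bm *ᵥ z ≠ 0 := fun h => hz0 (hBinj z h)
    obtain ⟨x, hx, hxw⟩ := (hDc.decomp.nondegenerate i₀ _ (hBmem z) hw0).1
    obtain ⟨y, rfl⟩ := hBsurj x hx
    rw [← hpol, D.form_def, hτid, Matrix.mulVec_mulVec, ← Matrix.vecMul_transpose, ← Matrix.dotProduct_mulVec,
      Matrix.mulVec_mulVec, ← Matrix.mul_assoc, ← hS, hz, dotProduct_zero] at hxw
    exact hxw rfl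
  have hSs : Sᵀ = S := by
    ext a c
    rw [Matrix.transpose_apply, hS, form_cols D (orData_τ h2), form_cols D (orData_τ h2), orData_swap]
  obtain ⟨C, s, hs, hCu, hC⟩ := exists_congr_scalar_three hq hSu hSs
  set V0 := Bm * C with hV0
  have hV0g : V0ᵀ * D.T * V0 = s • (1 : Matrix (Fin 3) (Fin 3) F) := by
    rw [hV0, Matrix.transpose_mul, ← hC, hS]; simp only [Matrix.mul_assoc]
  have hV0m : ∀ a, (fun x => V0 x a) ∈ Dc i₀ := fun a => by
    have : (fun x => V0 x a) = Bm *ᵥ (fun c => C c a) := funext fun x => by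
      simp [hV0, Matrix.mul_apply, Matrix.mulVec, dotProduct]
    rw [this]
    exact hBmem _
  choose e he using fun i => hDc.isometric i₀ i
  let v : Fin t → Fin 3 → OIdx m → F := fun i a => ((e i ⟨_, hV0m a⟩ : Dc i) : OIdx m → F)
  have hvm : ∀ i a, v i a ∈ Dc i := fun i a => (e i ⟨_, hV0m a⟩).2
  have hvform : ∀ i a c, D.form (v i a) (v i c) = if a = c then s else 0 := by
    intro i a c
    set x : Dc i₀ := ⟨_, hV0m a⟩ with hx
    set y : Dc i₀ := ⟨_, hV0m c⟩ with hy
    have h1 : D.form (v i a) (v i c) = D.form (x : OIdx m → F) y := by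
      rw [hpol]
      have h3 := he i (x + y)
      have h4 := he i x
      have h5 := he i y
      rw [map_add, Submodule.coe_add, Submodule.coe_add] at h3
      show Q _ - Q _ - Q _ = Q _ - Q _ - Q _
      rw [h3, h4, h5]
    rw [h1, hx, hy, ← form_cols D (orData_τ h2), hV0g, Matrix.smul_apply, smul_eq_mul, Matrix.one_apply, mul_ite,
      mul_one, mul_zero]
  let ε : OIdx m ≃ Fin t × Fin 3 := Fintype.equivOfCardEq (by
    rw [Fintype.card_prod, Fintype.card_fin, Fintype.card_fin]; exact card_eq_of_decomposition hdec)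
  set Pm : Matrix (OIdx m) (OIdx m) F := Matrix.of fun x j => v (ε j).1 (ε j).2 x with hPm
  have hgram : Pmᵀ * D.T * Pm = Matrix.diagonal fun _ => s := by
    ext j l
    rw [form_cols D (orData_τ h2)]
    show D.form (v (ε j).1 (ε j).2) (v (ε l).1 (ε l).2) = _
    by_cases h : (ε j).1 = (ε l).1
    · rw [← h, hvform, Matrix.diagonal_apply]
      by_cases h' : j = l
      · subst h'; simp
      · rw [if_neg h', if_neg fun h3 => h' (ε.injective (Prod.ext h h3))]
    · rw [hpol, hDc.decomp.orthogonal _ _ h _ (hvm _ _) _ (hvm _ _),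
        Matrix.diagonal_apply_ne _ (fun h' => h (by rw [h']))]
  have hPdet : Pm.det ≠ 0 := fun h0 => by
    have h := congrArg Matrix.det hgram
    rw [Matrix.det_mul, h0, mul_zero, Matrix.det_diagonal] at h
    exact Finset.prod_ne_zero_iff.2 (fun _ _ => hs) h.symm
  set P : GL (OIdx m) F := Matrix.GeneralLinearGroup.mkOfDetNeZero Pm hPdet
  have hP : (P : Matrix (OIdx m) (OIdx m) F) = Pm := rfl
  obtain ⟨E, hE, hle, hlines⟩ := exists_frame_decomposition D (orData_τ h2) (by rw [card_oIdx]; omega) P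
    (d := fun _ => s) hgram (H := H) (by
    intro g hg
    obtain ⟨σ, hσ⟩ := hHD hg
    set M := ((P⁻¹ * g * P : GL (OIdx m) F) : Matrix (OIdx m) (OIdx m) F) with hM
    have hPM : Pm * M = (g : Matrix (OIdx m) (OIdx m) F) * Pm := by
      rw [hM, ← hP, ← Units.val_mul, ← Units.val_mul, mul_assoc P⁻¹, mul_inv_cancel_left]
    have hgv : ∀ j, (fun x => ((g : Matrix (OIdx m) (OIdx m) F) * Pm) x j) =
        (g : Matrix (OIdx m) (OIdx m) F) *ᵥ v (ε j).1 (ε j).2 := fun j => rfl
    have hblock : ∀ l j, (ε l).1 ≠ σ (ε j).1 → M l j = 0 := by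
      intro l j hne
      have h1 : s * M l j = (Pmᵀ * D.T * (Pm * M)) l j := by
        rw [← Matrix.mul_assoc, hgram, Matrix.diagonal_mul]
      rw [hPM, form_cols D (orData_τ h2), hgv] at h1
      have hmem : (g : Matrix (OIdx m) (OIdx m) F) *ᵥ v (ε j).1 (ε j).2 ∈ Dc (σ (ε j).1) := by
        rw [← hσ, ← Matrix.toLin'_apply]
        exact Submodule.mem_map_of_mem (hvm _ _)
      have h3 : D.form (fun x => Pm x l) ((g : Matrix (OIdx m) (OIdx m) F) *ᵥ v (ε j).1 (ε j).2) = 0 := by
        rw [hpol]; exact hDc.decomp.orthogonal _ _ hne _ (hvm (ε l).1 (ε l).2) _ hmem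
      rw [h3] at h1
      exact (mul_eq_zero.1 h1).resolve_left hs
    have hMM : Mᵀ * M = 1 := by
      have h1 : (Pm * M)ᵀ * D.T * (Pm * M) = Pmᵀ * D.T * Pm := by
        rw [hPM]
        ext j l
        rw [form_cols D (orData_τ h2), form_cols D (orData_τ h2), hgv, hgv]
        exact form_of_mem_oIso h2 (hHI hg) _ _
      rw [show (Pm * M)ᵀ * D.T * (Pm * M) = Mᵀ * (Pmᵀ * D.T * Pm) * M by
        rw [Matrix.transpose_mul]; simp only [Matrix.mul_assoc], hgram, ← Matrix.smul_one_eq_diagonal,
        Matrix.mul_smul, Matrix.smul_mul, mul_one] at h1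
      exact smul_right_injective _ hs h1
    let B : Fin t → Matrix (Fin 3) (Fin 3) F := fun i =>
      Matrix.of fun c a => M (ε.symm (σ i, c)) (ε.symm (i, a))
    have hBB : ∀ i, (B i)ᵀ * B i = 1 := by
      intro i
      ext a c
      have h1 := congrFun (congrFun hMM (ε.symm (i, a))) (ε.symm (i, c))
      rw [Matrix.mul_apply, ← ε.symm.sum_comp, Fintype.sum_prod_type, Finset.sum_eq_single (σ i) ?_ (by simp)] at h1
      · rw [Matrix.mul_apply]
        refine h1.trans ?_
        simp [Matrix.one_apply]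
      · intro l _ hl
        refine Finset.sum_eq_zero fun z _ => ?_
        rw [hblock (ε.symm (l, z)) (ε.symm (i, c)) (by simp only [Equiv.apply_symm_apply]; exact hl), mul_zero]
    choose ρ hρ using fun i => exists_perm_of_orthogonal_three hq (hBB i)
    refine ⟨(ε.trans (σ.prodShear ρ)).trans ε.symm, fun l j hlj => ?_⟩
    have h1 : (ε l).1 = σ (ε j).1 := by_contra fun h => hlj (hblock l j h)
    have h3 : (ε l).2 = ρ (ε j).1 (ε j).2 := hρ _ _ _ (by
      show M (ε.symm (σ (ε j).1, (ε l).2)) (ε.symm ((ε j).1, (ε j).2)) ≠ 0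
      rwa [← h1, Prod.mk.eta, Prod.mk.eta, Equiv.symm_apply_apply, Equiv.symm_apply_apply])
    rw [Equiv.trans_apply, Equiv.trans_apply, ← ε.symm_apply_apply l]
    congr 1
    exact Prod.ext (by simpa using h1) (by simpa using h3))
  rw [hpol] at hE
  refine decomposition_cast (card_oIdx m) ⟨E, ⟨hE, fun a c => ?_⟩, hle⟩
  have hval : ∀ a, ∃ u : OIdx m → F, u ≠ 0 ∧ E a = Submodule.span F {u} ∧ Q u = (2 : F)⁻¹ * s := fun a => by
    obtain ⟨i, hne, hEa⟩ := hlines a
    refine ⟨_, hne, hEa, ?_⟩
    have hu : (P : Matrix (OIdx m) (OIdx m) F) *ᵥ Pi.single i 1 = fun x => Pm x i := by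
      rw [Matrix.mulVec_single_one, hP]; rfl
    rw [hu, hQ, quad_eq_half h2, ← form_cols D (orData_τ h2), hgram, Matrix.diagonal_apply_eq]
  obtain ⟨u, hu, hEa, hQu⟩ := hval a
  obtain ⟨w, hw, hEc, hQw⟩ := hval c
  rw [hEa, hEc]
  refine ⟨(LinearEquiv.toSpanNonzeroSingleton F _ u hu).symm.trans (LinearEquiv.toSpanNonzeroSingleton F _ w hw),
    fun x => ?_⟩
  conv_rhs => rw [← LinearEquiv.toSpanNonzeroSingleton_symm_apply_smul F _ u hu x]
  rw [LinearEquiv.trans_apply, LinearEquiv.toSpanNonzeroSingleton_apply, hQ, quad_smul, quad_smul, ← hQ, hQu, hQw]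

/-- Over three elements the stabiliser of a plus-type plane fixes a non-singular line. -/
theorem exists_line_of_plus_plane (h2 : (2 : F) ≠ 0) (hq : Fintype.card F = 3)
    {W : Submodule F (OIdx m → F)} (hdim : Module.finrank F W = 2)
    (hW : IsNondegenerateOn (QuadraticMap.polar (Cfsg.quadFormOdd m F)) W)
    (hplus : IsPlusTypeOn (Cfsg.quadFormOdd m F) W)
    (hHI : H ≤ Cfsg.isometryGroup F (Cfsg.quadFormOdd m F)) (hHW : H ≤ subspaceStabilizer W) :
    ∃ v : OIdx m → F, v ≠ 0 ∧ Cfsg.quadFormOdd m F v ≠ 0 ∧ H ≤ subspaceStabilizer (Submodule.span F {v}) := by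
  classical
  set D := orData h2 m
  set Q := Cfsg.quadFormOdd m F with hQ
  have hpol : D.form = QuadraticMap.polar Q := orData_form h2
  obtain ⟨T, hTW, hT, hdT⟩ := hplus
  have hT0 : T ≠ ⊥ := fun h => by rw [h, finrank_bot, hdim] at hdT; simp at hdT
  obtain ⟨e, heT, he0⟩ := Submodule.exists_mem_ne_zero_of_ne_bot hT0
  obtain ⟨y, hy, hey⟩ := (hW e (hTW heT) he0).2
  rw [← hpol] at hey
  have hee : D.form e e = 0 := by rw [orData_self, ← hQ, hT e heT, mul_zero]
  set c := D.form e y with hc
  set f := c⁻¹ • y - (Q (c⁻¹ • y)) • e with hf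
  have hfW : f ∈ W := sub_mem (W.smul_mem _ hy) (W.smul_mem _ (hTW heT))
  have hef : D.form e f = 1 := by
    rw [hf, sub_eq_add_neg, ← neg_smul, D.form_add_right, D.form_smul_right, D.form_smul_right, hee, mul_zero, add_zero, ← hc]
    show c⁻¹ * c = 1
    exact inv_mul_cancel₀ hey
  have hexp : ∀ a b : F, Q (a • e + b • f) = a * b + b ^ 2 * Q f := fun a b => by
    rw [hQ, quad_eq_half h2, D.form_add_left, D.form_add_right, D.form_add_right, D.form_smul_left, D.form_smul_left,
      D.form_smul_left, D.form_smul_left, D.form_smul_right, D.form_smul_right, D.form_smul_right, D.form_smul_right,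
      show D.form f e = D.form e f from orData_swap h2 e f, hee, hef, orData_self]
    show _ * (a * (a * 0) + a * (b * 1) + (b * (a * 1) + b * (b * (2 * Q f)))) = _
    field_simp
    ring
  have hff : Q f = 0 := by
    have hy' : Q (c⁻¹ • y) = Q f + Q (c⁻¹ • y) := by
      conv_lhs => rw [show c⁻¹ • y = Q (c⁻¹ • y) • e + (1 : F) • f by rw [hf, one_smul, add_sub_cancel]]
      rw [hexp, mul_one, one_pow, one_mul, add_comm]
    linear_combination -hy'
  have hef0 : e + f ≠ 0 := fun h => by
    have := hexp 1 1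
    rw [one_smul, one_smul, h, hff, mul_one, mul_zero, add_zero] at this
    have h0 : Q (0 : OIdx m → F) = 0 := by
      have := quad_smul (m := m) (0 : F) e
      rw [zero_smul, zero_pow two_ne_zero, zero_mul] at this
      exact this
    rw [h0] at this
    exact zero_ne_one this
  have hval : Q (e + f) = 1 := by
    have := hexp 1 1
    rw [one_smul, one_smul, hff, mul_one, mul_zero, add_zero] at this
    exact this
  have hspan : Submodule.span F {e, f} = W := by
    refine Submodule.eq_of_le_of_finrank_le (Submodule.span_le.2 ?_) ?_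
    · rintro x (rfl | rfl)
      · exact hTW heT
      · exact hfW
    · have hli : LinearIndependent F ![e, f] := by
        rw [LinearIndependent.pair_iff]
        intro a b hab
        have h1 : D.form e (a • e + b • f) = 0 := by rw [hab, D.form_zero_right]
        rw [D.form_add_right, D.form_smul_right, D.form_smul_right, hee, hef, mul_zero, zero_add, mul_one] at h1
        have hb : b = 0 := h1
        rw [hb, zero_smul, add_zero] at hab
        exact ⟨(smul_eq_zero.1 hab).resolve_right he0, hb⟩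
      have := finrank_span_eq_card hli
      rw [Matrix.range_cons, Matrix.range_cons, Matrix.range_empty, Set.union_empty, Set.singleton_union] at this
      rw [hdim, this]; simp
  refine ⟨e + f, hef0, by rw [hval]; exact one_ne_zero, fun g hg => mem_subspaceStabilizer_of_forall fun x hx => ?_⟩
  obtain ⟨k, rfl⟩ := Submodule.mem_span_singleton.1 hx
  rw [Matrix.mulVec_smul]
  refine Submodule.smul_mem _ _ ?_
  have h1 : (g : Matrix _ _ F) *ᵥ (e + f) ∈ W :=
    (mem_subspaceStabilizer.1 (hHW hg) _).1 (add_mem (hTW heT) hfW)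
  rw [← hspan, Submodule.mem_span_pair] at h1
  obtain ⟨a, b, hab⟩ := h1
  have h3 := mem_oIso.1 (hHI hg) (e + f)
  rw [← hQ, ← hab, hexp, hff, hval, mul_zero, add_zero] at h3
  have hb : b ≠ 0 := fun h => by rw [h, mul_zero] at h3; exact zero_ne_one h3
  have hab' : a = b := by
    have := sq_eq_one_three hq hb
    calc a = a * (b * b) := by rw [this, mul_one]
      _ = b := by rw [← mul_assoc, h3, one_mul]
  rw [← hab, hab', ← smul_add]
  exact Submodule.smul_mem _ _ (Submodule.mem_span_singleton_self _)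

end Cfsg.Agent.Aschbacher
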