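/-
Maximal subgroups of Omega in odd dimension: the possible types with their numerical conditions.
-/
import Mathlib
import Cfsg.Agent.Aschbacher.Or.Main
import Cfsg.Agent.Aschbacher.Or.Lists.Proper
import Cfsg.Agent.Aschbacher.Or.Lists.Three

set_option autoImplicit false
set_option linter.style.haveILetI false

namespace Cfsg.Agent.Aschbacher

open Matrix
open Cfsg.Geo
open Cfsg.Agent.Classical.OrthForms

variable {F : Type*} [Field F]

/-- The degree of a field of matrices divides the dimension. -/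
lemma dvd_card_of_field [Finite F] {ι : Type} [Fintype ι] [DecidableEq ι] [Nonempty ι] {r : ℕ} (hr : r.Prime)
    {K : Subalgebra F (Matrix ι ι F)} (hK : IsFieldSubalgebra r K) : r ∣ Fintype.card ι := by
  classical
  have hF : IsField K :=
    { exists_pair_ne := ⟨0, 1, zero_ne_one⟩
      mul_comm := fun a b => Subtype.ext (hK.comm a a.2 b b.2)
      mul_inv_cancel := fun {a} ha => by
        obtain ⟨y, hy, h⟩ := hK.inv a a.2 fun h => ha (Subtype.ext h)
        exact ⟨⟨y, hy⟩, Subtype.ext h⟩ }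
  letI : Field K := hF.toField
  haveI : Finite K := inferInstance
  haveI : Module.Finite F K := Module.Finite.of_finite
  have h1 := Module.finrank_mul_finrank F K (Matrix ι ι F)
  rw [hK.finrank_eq, Module.finrank_matrix, Module.finrank_self, mul_one] at h1
  exact (hr.dvd_mul.1 (Dvd.intro _ h1)).elim id id

lemma five_le_or_three_orth [Fintype F] (hodd : Odd (Fintype.card F)) :
    5 ≤ Fintype.card F ∨ Fintype.card F = 3 := by
  obtain ⟨k, hk⟩ := hodd
  have := Fintype.one_lt_card (α := F)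
  omega

variable [Fintype F] {m : ℕ} {H : Subgroup (GL (OIdx m) F)}

lemma eq_inf_of_maximal {I M : Subgroup (GL (OIdx m) F)} (hH : IsMaximalIn I H) (hle : H ≤ M) (hnot : ¬ I ≤ M) :
    H = M ⊓ I := by
  rcases hH.2 (M ⊓ I) (le_inf hle hH.1.le) inf_le_right with h | h
  · exact h.symm
  · exact absurd (h ▸ inf_le_left) hnot

lemma omegaGL_le_oIso : omegaGL (Cfsg.quadFormOdd m F) ≤ Cfsg.isometryGroup F (Cfsg.quadFormOdd m F) := by
  rintro _ ⟨x, -, rfl⟩
  exact x.2

/-- A stabilised non-degenerate subspace gives one of even dimension. -/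
lemma exists_even_nondeg (h2 : (2 : F) ≠ 0) (hm : 2 ≤ m) {W : Submodule F (OIdx m → F)} (h0 : W ≠ ⊥) (h1 : W ≠ ⊤)
    (hW : IsNondegenerateOn (QuadraticMap.polar (Cfsg.quadFormOdd m F)) W)
    (hH : IsMaximalIn (omegaGL (Cfsg.quadFormOdd m F)) H) (hle : H ≤ subspaceStabilizer W) :
    ∃ W' : Submodule F (OIdx m → F), W' ≠ ⊥ ∧ Even (Module.finrank F W') ∧
      IsNondegenerateOn (QuadraticMap.polar (Cfsg.quadFormOdd m F)) W' ∧
      H = subspaceStabilizer W' ⊓ omegaGL (Cfsg.quadFormOdd m F) ∧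
      (Module.finrank F W' = Module.finrank F W ∨ Module.finrank F W' + Module.finrank F W = 2 * m + 1) := by
  classical
  set Q := oddQ F m with hQdef
  have hQ := oddQ_nondeg (F := F) h2 m
  have hcard : 5 ≤ Fintype.card (OIdx m) := by rw [card_oIdx]; omega
  have hHI : H ≤ Cfsg.isometryGroup F (Cfsg.quadFormOdd m F) := hH.1.le.trans omegaGL_le_oIso
  have hnot : ∀ V : Submodule F (OIdx m → F), V ≠ ⊥ → V ≠ ⊤ →
      ¬ omegaGL (Cfsg.quadFormOdd m F) ≤ subspaceStabilizer V := fun V hV0 hV1 => by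
    rw [← oddQ_eq]
    exact not_omega_le_subspace hQ (oddFrame F hm) hcard hV0 hV1
  rcases Nat.even_or_odd (Module.finrank F W) with hev | hod
  · exact ⟨W, h0, hev, hW, eq_inf_of_maximal hH hle (hnot W h0 h1), Or.inl rfl⟩
  set W' : Submodule F (OIdx m → F) := Forms.Max.Orth.perp Q W with hW'
  have hd : Module.finrank F W' + Module.finrank F W = 2 * m + 1 :=
    (Forms.Max.Orth.finrank_perp hQ W).trans (card_oIdx m)
  have hWn : ∀ w ∈ W, w ≠ 0 → ∃ x ∈ W, QuadraticMap.polar Q w x ≠ 0 := fun w hw hw0 => by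
    rw [oddQ_eq]; exact (hW w hw hw0).2
  have hnd := Forms.Max.perp_nondeg (Forms.Max.Orth.nd hQ) Forms.Reflections.polB_refl hWn
  have h0' : W' ≠ ⊥ := fun h => by
    rw [h, finrank_bot, zero_add] at hd
    exact h1 (Submodule.eq_top_of_finrank_eq (by rw [hd, Module.finrank_fintype_fun_eq_card, card_oIdx]))
  have h1' : W' ≠ ⊤ := fun h => by
    rw [h, finrank_top, Module.finrank_fintype_fun_eq_card, card_oIdx] at hd
    exact h0 (Submodule.finrank_eq_zero.1 (by omega))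
  have hperp : (orData h2 m).perp W = W' := by
    ext v
    rw [FormData.mem_perp, hW', Forms.Max.Orth.mem_perp, orData_form, oddQ_eq]
  have hle' : H ≤ subspaceStabilizer W' := fun g hg => mem_subspaceStabilizer_of_forall fun v hv => by
    rw [← hperp] at hv ⊢
    exact (orData h2 m).perp_invariant (hHI.trans (oIso_le_sim h2))
      (fun x hx w hw => (mem_subspaceStabilizer.1 (hle hx) w).1 hw) g hg v hv
  refine ⟨W', h0', ?_, fun w hw hw0 => ?_, eq_inf_of_maximal hH hle' (hnot W' h0' h1'), Or.inr hd⟩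
  · obtain ⟨a, ha⟩ := hod
    exact ⟨m - a, by omega⟩
  · obtain ⟨x, hx, hwx⟩ := hnd w hw hw0
    have hwx' : QuadraticMap.polar (Cfsg.quadFormOdd m F) w x ≠ 0 := by rw [← oddQ_eq]; exact hwx
    exact ⟨⟨x, hx, by rwa [QuadraticMap.polar_comm]⟩, ⟨x, hx, hwx'⟩⟩

/-- The types of maximal subgroups of Omega in odd dimension. -/
def IsOrListed (m : ℕ) (F : Type*) [Field F] [Fintype F] (H : Subgroup (GL (OIdx m) F)) : Prop :=
  let Q := Cfsg.quadFormOdd m F
  let I := omegaGL Q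
  (∃ W : Submodule F (OIdx m → F), W ≠ ⊥ ∧ IsTotallySingularQuad Q W ∧ H = subspaceStabilizer W ⊓ I) ∨
  (∃ W : Submodule F (OIdx m → F), W ≠ ⊥ ∧ Even (Module.finrank F W) ∧
      IsNondegenerateOn (QuadraticMap.polar Q) W ∧
      ¬ (Fintype.card F = 3 ∧ Module.finrank F W = 2 ∧ IsPlusTypeOn Q W) ∧ H = subspaceStabilizer W ⊓ I) ∨
  ((Fintype.card F).Prime ∧ ∃ D : Fin (2 * m + 1) → Submodule F (OIdx m → F),
      IsOrthogonalMDecomposition Q 1 D ∧ H = decompositionStabilizer D ⊓ I) ∨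
  (∃ (t k : ℕ) (D : Fin t → Submodule F (OIdx m → F)), 2 ≤ t ∧ 3 ≤ k ∧ t * k = 2 * m + 1 ∧
      (k = 3 → 5 ≤ Fintype.card F) ∧ IsOrthogonalMDecomposition Q k D ∧ H = decompositionStabilizer D ⊓ I) ∨
  (∃ (r : ℕ) (K : Subalgebra F (Matrix (OIdx m) (OIdx m) F)), r.Prime ∧ r ∣ 2 * m + 1 ∧ 2 * m + 1 ≠ r ∧
      IsFieldSubalgebra r K ∧ IsSelfAdjointFor (QuadraticMap.polar Q) K ∧ H = subalgebraNormalizer K ⊓ I) ∨
  (∃ (F₀ : Subfield F) (r : ℕ) (P : GL (OIdx m) F), r.Prime ∧ Fintype.card F = Nat.card F₀ ^ r ∧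
      IsQuadFormRationalStructure Q F₀ P ∧ H = subfieldSubgroup F₀ P ⊓ I) ∨
  (∃ (k : ℕ) (e : OIdx m ≃ (Fin 2 → Fin k)) (P : GL (OIdx m) F) (f₁ : (Fin k → F) → (Fin k → F) → F),
      3 ≤ k ∧ k ^ 2 = 2 * m + 1 ∧ ¬ (Fintype.card F = 3 ∧ k = 3) ∧ IsSymmetricForm f₁ ∧
      IsTensorPowerFormStructure id (QuadraticMap.polar Q) f₁ e P ∧ H = tensorWreathSubgroup k 2 e P ⊓ I)

/-- A maximal subgroup of Omega is of a listed type or residual, for dimensions with no tensor types but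
the square. -/
theorem orListed_or_residual (hodd : Odd (Fintype.card F)) (hm : 3 ≤ m)
    (hnt : ∀ n₁ n₂ : ℕ, 3 ≤ n₁ → n₁ < n₂ → n₁ * n₂ ≠ 2 * m + 1)
    (hpw : ∀ k t : ℕ, 3 ≤ k → 2 ≤ t → k ^ t = 2 * m + 1 → t = 2)
    (hH : IsMaximalIn (omegaGL (Cfsg.quadFormOdd m F)) H) :
    IsOrListed m F H ∨ InOrthogonalResidualClass H := by
  classical
  have h2 : (2 : F) ≠ 0 := odd_card_iff.1 hodd
  have hQ := oddQ_nondeg (F := F) h2 m
  have hcard : 5 ≤ Fintype.card (OIdx m) := by rw [card_oIdx]; omega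
  set f := oddFrame F (show 2 ≤ m by omega)
  have hHI : H ≤ Cfsg.isometryGroup F (Cfsg.quadFormOdd m F) := hH.1.le.trans omegaGL_le_oIso
  rcases orthogonal_odd_class_or_residual h2 (by omega) hHI with ⟨M, hM, hle⟩ | h
  swap
  · exact Or.inr h
  refine Or.inl ?_
  have hdecomp : ∀ {t k : ℕ} {D : Fin t → Submodule F (OIdx m → F)},
      IsOrthogonalMDecomposition (Cfsg.quadFormOdd m F) k D → H ≤ decompositionStabilizer D →
      H = decompositionStabilizer D ⊓ omegaGL (Cfsg.quadFormOdd m F) := fun {t k D} hD hle' => by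
    refine eq_inf_of_maximal hH hle' ?_
    rw [← oddQ_eq]
    exact not_omega_le_decomposition hQ f hcard h2 hD.decomp.decomp
  unfold IsOrMember at hM
  rcases hM with ⟨W, hW0, hts, rfl⟩ | ⟨W, hW0, hW1, hW, rfl⟩ | ⟨t, k, D, hk, hD, rfl⟩ | ⟨t, D, hp, hD, rfl⟩ |
    ⟨r, K, hr, hrn, hK, hsa, rfl⟩ | ⟨n₁, n₂, e, P, f₁, f₂, hn1, hn2, -, -, -, rfl⟩ |
    ⟨F₀, r, P, hr, hc, hP, rfl⟩ | ⟨k, t, e, P, f₁, hk, ht, hq, hf, hs, rfl⟩
  · refine Or.inl ⟨W, hW0, hts, eq_inf_of_maximal hH hle ?_⟩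
    rw [← oddQ_eq]
    refine not_omega_le_subspace hQ f hcard hW0 fun htop => f.hx ?_
    rw [oddQ_eq]
    exact hts _ (htop ▸ Submodule.mem_top)
  · refine Or.inr (Or.inl ?_)
    obtain ⟨W', h0', hev, hW', he, -⟩ := exists_even_nondeg h2 (by omega) hW0 hW1 hW hH hle
    by_cases hex : Fintype.card F = 3 ∧ Module.finrank F W' = 2 ∧ IsPlusTypeOn (Cfsg.quadFormOdd m F) W'
    swap
    · exact ⟨W', h0', hev, hW', hex, he⟩
    obtain ⟨hq, hdim, hplus⟩ := hex
    obtain ⟨v, hv0, hQv, hHv⟩ := exists_line_of_plus_plane h2 hq hdim hW' hplus hHI (he.le.trans inf_le_left)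
    have hL : IsNondegenerateOn (QuadraticMap.polar (Cfsg.quadFormOdd m F)) (Submodule.span F {v}) := by
      intro w hw hw0
      obtain ⟨c, rfl⟩ := Submodule.mem_span_singleton.1 hw
      have hc : c ≠ 0 := fun h => hw0 (by rw [h, zero_smul])
      have hne : (orData h2 m).form (c • v) v ≠ 0 := by
        rw [FormData.form_smul_left, orData_self]
        exact mul_ne_zero hc (mul_ne_zero h2 hQv)
      rw [orData_form] at hne
      exact ⟨⟨v, Submodule.mem_span_singleton_self v, by rwa [QuadraticMap.polar_comm]⟩,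
        ⟨v, Submodule.mem_span_singleton_self v, hne⟩⟩
    have hL1 : Submodule.span F {v} ≠ ⊤ := fun h => by
      have := finrank_span_singleton (K := F) hv0
      rw [h, finrank_top, Module.finrank_fintype_fun_eq_card, card_oIdx] at this
      omega
    obtain ⟨W'', h0'', hev'', hW'', he'', hd''⟩ := exists_even_nondeg h2 (by omega)
      (fun h => hv0 (Submodule.span_singleton_eq_bot.1 h)) hL1 hL hH hHv
    refine ⟨W'', h0'', hev'', hW'', fun h => ?_, he''⟩
    rw [finrank_span_singleton hv0] at hd''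
    rcases hd'' with hd | hd
    · obtain ⟨a, ha⟩ := hev''
      omega
    · omega
  · have hc := card_eq_of_decomposition hD.decomp.decomp
    rw [card_oIdx] at hc
    have ht := hD.decomp.decomp.two_le
    have hkodd : Odd k := (Nat.odd_mul.1 (hc ▸ odd_two_mul_add_one m)).2
    have hk3 : 3 ≤ k := by obtain ⟨j, rfl⟩ := hkodd; omega
    by_cases hk5 : k = 3 ∧ Fintype.card F < 5
    · obtain ⟨rfl, hlt⟩ := hk5
      have hq : Fintype.card F = 3 := (five_le_or_three_orth hodd).resolve_left (by omega)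
      obtain ⟨E, hE, hle'⟩ := exists_lines_of_threes h2 (by omega) hq hD hHI hle
      exact Or.inr (Or.inr (Or.inl ⟨hq ▸ Nat.prime_three, E, hE, hdecomp hE hle'⟩))
    · exact Or.inr (Or.inr (Or.inr (Or.inl ⟨t, k, D, ht, hk3, hc.symm, fun h => by
        by_contra hlt
        exact hk5 ⟨h, by omega⟩, hD, hdecomp hD hle⟩)))
  · have hc := card_eq_of_decomposition hD.decomp.decomp
    rw [card_oIdx, mul_one] at hc
    subst hc
    exact Or.inr (Or.inr (Or.inl ⟨hp, D, hD, hdecomp hD hle⟩))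
  · have hdvd : r ∣ 2 * m + 1 := card_oIdx m ▸ dvd_card_of_field hr hK
    have hr3 : 3 ≤ r := by
      have := hr.two_le
      by_contra h
      obtain rfl : r = 2 := by omega
      obtain ⟨c, hc⟩ := hdvd
      omega
    refine Or.inr (Or.inr (Or.inr (Or.inr (Or.inl ⟨r, K, hr, hdvd, hrn, hK, hsa, eq_inf_of_maximal hH hle ?_⟩))))
    rw [← oddQ_eq]
    exact not_omega_le_field hQ f hcard hr3 hK
  · have hc := Fintype.card_congr e
    rw [card_oIdx, Fintype.card_prod, Fintype.card_fin, Fintype.card_fin] at hc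
    exact absurd hc.symm (hnt n₁ n₂ hn1 hn2)
  · refine Or.inr (Or.inr (Or.inr (Or.inr (Or.inr (Or.inl ⟨F₀, r, P, hr, hc, hP, eq_inf_of_maximal hH hle ?_⟩)))))
    rw [← oddQ_eq]
    exact not_omega_le_subfield hQ f hcard h2 hr hc P
  · have hc := Fintype.card_congr e
    rw [card_oIdx, Fintype.card_fun, Fintype.card_fin, Fintype.card_fin] at hc
    obtain rfl := hpw k t hk ht hc.symm
    refine Or.inr (Or.inr (Or.inr (Or.inr (Or.inr (Or.inr
      ⟨k, e, P, f₁, hk, hc.symm, hq, hf, hs, eq_inf_of_maximal hH hle ?_⟩)))))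
    rw [← oddQ_eq]
    exact not_omega_le_wreath hQ f hcard h2 hk e P

/-- The listed types in prime dimension. -/
theorem orListed_prime (hodd : Odd (Fintype.card F)) (hm : 3 ≤ m) (hn : (2 * m + 1).Prime)
    (hH : IsMaximalIn (omegaGL (Cfsg.quadFormOdd m F)) H) :
    (∃ W : Submodule F (OIdx m → F), W ≠ ⊥ ∧ IsTotallySingularQuad (Cfsg.quadFormOdd m F) W ∧
      H = subspaceStabilizer W ⊓ omegaGL (Cfsg.quadFormOdd m F)) ∨
    (∃ W : Submodule F (OIdx m → F), W ≠ ⊥ ∧ Even (Module.finrank F W) ∧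
      IsNondegenerateOn (QuadraticMap.polar (Cfsg.quadFormOdd m F)) W ∧
      ¬ (Fintype.card F = 3 ∧ Module.finrank F W = 2 ∧ IsPlusTypeOn (Cfsg.quadFormOdd m F) W) ∧
      H = subspaceStabilizer W ⊓ omegaGL (Cfsg.quadFormOdd m F)) ∨
    ((Fintype.card F).Prime ∧ ∃ D : Fin (2 * m + 1) → Submodule F (OIdx m → F),
      IsOrthogonalMDecomposition (Cfsg.quadFormOdd m F) 1 D ∧
      H = decompositionStabilizer D ⊓ omegaGL (Cfsg.quadFormOdd m F)) ∨
    (∃ (F₀ : Subfield F) (r : ℕ) (P : GL (OIdx m) F), r.Prime ∧ Fintype.card F = Nat.card F₀ ^ r ∧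
      IsQuadFormRationalStructure (Cfsg.quadFormOdd m F) F₀ P ∧
      H = subfieldSubgroup F₀ P ⊓ omegaGL (Cfsg.quadFormOdd m F)) ∨
    InOrthogonalResidualClass H := by
  have hno : ∀ a b : ℕ, 2 ≤ a → 2 ≤ b → a * b ≠ 2 * m + 1 := fun a b ha hb h => by
    rcases hn.eq_one_or_self_of_dvd a ⟨b, h.symm⟩ with h1 | h1
    · omega
    · subst h1; nlinarith
  have hnp : ∀ k t : ℕ, 3 ≤ k → 2 ≤ t → k ^ t ≠ 2 * m + 1 := fun k t hk ht h => by
    obtain ⟨s, rfl⟩ : ∃ s, t = s + 2 := ⟨t - 2, by omega⟩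
    refine hno k (k ^ (s + 1)) (by omega) ?_ (by rw [← h]; ring)
    calc 2 ≤ k ^ 1 := by rw [pow_one]; omega
      _ ≤ k ^ (s + 1) := Nat.pow_le_pow_right (by omega) (by omega)
  rcases orListed_or_residual hodd hm (fun a b ha hb => hno a b (by omega) (by omega))
    (fun k t hk ht h => absurd h (hnp k t hk ht)) hH with h | h
  swap
  · exact Or.inr (Or.inr (Or.inr (Or.inr h)))
  rcases h with h | h | h | ⟨t, k, D, ht, hk, hc, -⟩ | ⟨r, K, hr, hd, hne, -⟩ | h | ⟨k, e, P, f₁, hk, hc, -⟩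
  · exact Or.inl h
  · exact Or.inr (Or.inl h)
  · exact Or.inr (Or.inr (Or.inl h))
  · exact absurd hc (hno t k ht (by omega))
  · exact absurd ((Nat.prime_dvd_prime_iff_eq hr hn).1 hd).symm hne
  · exact Or.inr (Or.inr (Or.inr (Or.inl h)))
  · exact absurd hc (hnp k 2 hk le_rfl)

end Cfsg.Agent.Aschbacher
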